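/-
Identities of the universal multiplication polynomials of λ-rings.
-/
import Groth.Agent.L08.Lambda.Universal
import Groth.Agent.L08.Lambda.Special
import Mathlib.FieldTheory.IsAlgClosed.AlgebraicClosure
import Mathlib.RingTheory.Polynomial.Vieta
import Mathlib.RingTheory.Localization.FractionRing

set_option autoImplicit false

universe u

namespace Groth.L13.ElemExt

open Finset MvPolynomial Groth.L08.Lambda LambdaRing

variable {R : Type u} [CommRing R]

/-- The sequence of `λ_t = 1 + u t`. -/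
def lineSeq (u : R) (i : ℕ) : R := if i = 0 then 1 else if i = 1 then u else 0

/-- Convolution of two sequences. -/
def conv (a a' : ℕ → R) (n : ℕ) : R := ∑ i ∈ range (n + 1), a i * a' (n - i)

theorem mk_conv (a a' : ℕ → R) :
    PowerSeries.mk (conv a a') = PowerSeries.mk a * PowerSeries.mk a' := by
  ext n
  rw [PowerSeries.coeff_mk, PowerSeries.coeff_mul, Finset.Nat.sum_antidiagonal_eq_sum_range_succ_mk]
  simp [conv]

theorem conv_zero {a a' : ℕ → R} (ha : a 0 = 1) (ha' : a' 0 = 1) : conv a a' 0 = 1 := by simp [conv, ha, ha']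

theorem gh_conv {a a' : ℕ → R} (ha : a 0 = 1) (ha' : a' 0 = 1) {k : ℕ} (hk : 1 ≤ k) :
    gh (conv a a') k = gh a k + gh a' k :=
  (((newton_gh ha).mul (newton_gh ha') (mk_conv a a')).eq_gh k hk).symm

theorem newton_scale {c q : ℕ → R} (h : Newton c q) (t : R) :
    Newton (fun i => t ^ i * c i) (fun k => t ^ k * q k) := by
  refine ⟨by simp [h.1], fun n => ?_⟩
  calc ((n : R) + 1) * (t ^ (n + 1) * c (n + 1)) = t ^ (n + 1) * (((n : R) + 1) * c (n + 1)) := by ring
    _ = _ := by
      rw [h.2, mul_sum]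
      refine sum_congr rfl fun i hi => ?_
      have : t ^ (n + 1) = t ^ (i + 1) * t ^ (n - i) := by
        rw [← pow_add]; congr 1; have := mem_range.1 hi; omega
      rw [this]; ring

theorem gh_scale {a : ℕ → R} (ha : a 0 = 1) (t : R) {k : ℕ} (hk : 1 ≤ k) :
    gh (fun i => t ^ i * a i) k = t ^ k * gh a k :=
  ((newton_scale (newton_gh ha) t).eq_gh k hk).symm

theorem gh_lineSeq (u : R) {k : ℕ} (hk : 1 ≤ k) : gh (lineSeq u) k = u ^ k :=
  ((newton_linear u).eq_gh k hk).symm

theorem eq_of_gh [IsDomain R] [CharZero R] {c c' : ℕ → R} (h : c 0 = 1) (h' : c' 0 = 1)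
    (hg : ∀ k, 1 ≤ k → gh c k = gh c' k) (n : ℕ) : c n = c' n :=
  (newton_gh h).c_eq (newton_gh h')
    (fun m a b hab => mul_left_cancel₀ (Nat.cast_add_one_ne_zero m) hab) n (fun k hk _ => hg k hk) n le_rfl

variable {P : ∀ n, MvPolynomial (Fin n ⊕ Fin n) ℤ} (hP : ∀ n, IsMulPoly n (P n))

include hP in
theorem mulSeq_zero {a b : ℕ → R} (ha : a 0 = 1) (hb : b 0 = 1) : mulSeq P a b 0 = 1 :=
  (mul_key hP a b ha hb).1

theorem mulSeq_congr {a a' b b' : ℕ → R} (ha : ∀ i, a i = a' i) (hb : ∀ i, b i = b' i) (n : ℕ) :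
    mulSeq P a b n = mulSeq P a' b' n := by
  rw [funext ha, funext hb]

abbrev Gen : Type := ℕ ⊕ ℕ ⊕ ℕ ⊕ Unit

/-- Specialization of the universal ring. -/
noncomputable def spec (a a' b : ℕ → R) (t : R) : MvPolynomial Gen ℤ →+* R :=
  (aeval (Sum.elim (fun i => a (i + 1)) (Sum.elim (fun i => a' (i + 1))
    (Sum.elim (fun i => b (i + 1)) fun _ => t)))).toRingHom

noncomputable def gA : ℕ → MvPolynomial Gen ℤ := genSeq Gen Sum.inl ℤ
noncomputable def gA' : ℕ → MvPolynomial Gen ℤ := genSeq Gen (fun i => Sum.inr (Sum.inl i)) ℤ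
noncomputable def gB : ℕ → MvPolynomial Gen ℤ := genSeq Gen (fun i => Sum.inr (Sum.inr (Sum.inl i))) ℤ
noncomputable def gT : MvPolynomial Gen ℤ := X (Sum.inr (Sum.inr (Sum.inr ())))

theorem gA_zero : gA 0 = 1 := by rw [gA]; exact if_pos rfl
theorem gA'_zero : gA' 0 = 1 := by rw [gA']; exact if_pos rfl
theorem gB_zero : gB 0 = 1 := by rw [gB]; exact if_pos rfl

theorem spec_gA {a a' b : ℕ → R} (t : R) (ha : a 0 = 1) (i : ℕ) : spec a a' b t (gA i) = a i :=
  aeval_genSeq (σ := Gen) Sum.inl _ ha (fun _ => rfl) i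

theorem spec_gA' {a a' b : ℕ → R} (t : R) (ha : a' 0 = 1) (i : ℕ) : spec a a' b t (gA' i) = a' i :=
  aeval_genSeq (σ := Gen) (fun i => Sum.inr (Sum.inl i)) _ ha (fun _ => rfl) i

theorem spec_gB {a a' b : ℕ → R} (t : R) (hb : b 0 = 1) (i : ℕ) : spec a a' b t (gB i) = b i :=
  aeval_genSeq (σ := Gen) (fun i => Sum.inr (Sum.inr (Sum.inl i))) _ hb (fun _ => rfl) i

theorem spec_gT (a a' b : ℕ → R) (t : R) : spec a a' b t gT = t := aeval_X _ _

include hP in
theorem gh_mulSeq {a b : ℕ → R} (ha : a 0 = 1) (hb : b 0 = 1) {k : ℕ} (hk : 1 ≤ k) :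
    gh (mulSeq P a b) k = gh a k * gh b k :=
  (mul_key hP a b ha hb).2 k hk

include hP in
theorem mulSeq_conv {a a' b : ℕ → R} (ha : a 0 = 1) (ha' : a' 0 = 1) (hb : b 0 = 1) (n : ℕ) :
    mulSeq P (conv a a') b n = conv (mulSeq P a b) (mulSeq P a' b) n := by
  have key : mulSeq P (conv gA gA') gB n = conv (mulSeq P gA gB) (mulSeq P gA' gB) n := by
    have h0 := conv_zero gA_zero gA'_zero
    have h1 := mulSeq_zero hP gA_zero gB_zero
    have h1' := mulSeq_zero hP gA'_zero gB_zero
    refine eq_of_gh (mulSeq_zero hP h0 gB_zero) (conv_zero h1 h1') (fun k hk => ?_) n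
    rw [gh_mulSeq hP h0 gB_zero hk, gh_conv gA_zero gA'_zero hk, gh_conv h1 h1' hk,
      gh_mulSeq hP gA_zero gB_zero hk, gh_mulSeq hP gA'_zero gB_zero hk, add_mul]
  have := congrArg (spec a a' b 1) key
  simp only [conv, map_sum, map_mul, map_mulSeq, spec_gA 1 ha, spec_gA' 1 ha', spec_gB 1 hb] at this
  exact this

include hP in
theorem mulSeq_scale {a b : ℕ → R} (t : R) (ha : a 0 = 1) (hb : b 0 = 1) (n : ℕ) :
    mulSeq P (fun i => t ^ i * a i) b n = t ^ n * mulSeq P a b n := by
  have key : mulSeq P (fun i => gT ^ i * gA i) gB n = gT ^ n * mulSeq P gA gB n := by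
    have h0 : (fun i => gT ^ i * gA i) 0 = 1 := by simp [gA_zero]
    have h1 := mulSeq_zero hP gA_zero gB_zero
    refine eq_of_gh (mulSeq_zero hP h0 gB_zero) (c' := fun i => gT ^ i * mulSeq P gA gB i) (by simp [h1])
      (fun k hk => ?_) n
    rw [gh_mulSeq hP h0 gB_zero hk, gh_scale gA_zero _ hk, gh_scale h1 _ hk,
      gh_mulSeq hP gA_zero gB_zero hk, mul_assoc]
  have := congrArg (spec a a b t) key
  simpa only [map_mul, map_pow, map_mulSeq, spec_gA t ha, spec_gB t hb, spec_gT] using this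

include hP in
theorem mulSeq_comm {a b : ℕ → R} (ha : a 0 = 1) (hb : b 0 = 1) (n : ℕ) :
    mulSeq P a b n = mulSeq P b a n := by
  have key : mulSeq P gA gB n = mulSeq P gB gA n := by
    refine eq_of_gh (mulSeq_zero hP gA_zero gB_zero) (mulSeq_zero hP gB_zero gA_zero) (fun k hk => ?_) n
    rw [gh_mulSeq hP gA_zero gB_zero hk, gh_mulSeq hP gB_zero gA_zero hk, mul_comm]
  have := congrArg (spec a a b 1) key
  simpa only [map_mulSeq, spec_gA 1 ha, spec_gB 1 hb] using this

include hP in
/-- Multiplication by a line element. -/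
theorem mulSeq_lineSeq {a : ℕ → R} (ha : a 0 = 1) (u : R) (n : ℕ) :
    mulSeq P a (lineSeq u) n = u ^ n * a n := by
  have key : mulSeq P gA (lineSeq gT) n = gT ^ n * gA n := by
    refine eq_of_gh (mulSeq_zero hP gA_zero rfl) (c' := fun i => gT ^ i * gA i) (by simp [gA_zero])
      (fun k hk => ?_) n
    rw [gh_mulSeq hP gA_zero rfl hk, gh_lineSeq _ hk, gh_scale gA_zero _ hk, mul_comm]
  have := congrArg (spec a a a u) key
  have hl : ∀ i, spec a a a u (lineSeq gT i) = lineSeq u i := fun i => by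
    unfold lineSeq; split_ifs <;> simp [spec_gT]
  simpa only [map_mul, map_pow, map_mulSeq, spec_gA u ha, spec_gT, hl] using this

include hP in
theorem mulSeq_one_left {b : ℕ → R} (hb : b 0 = 1) (n : ℕ) :
    mulSeq P (lineSeq 0) b n = lineSeq 0 n := by
  rw [mulSeq_comm hP rfl hb, mulSeq_lineSeq hP hb]
  rcases n with - | n <;> simp [lineSeq, hb]

/-- A finite sequence over an algebraically closed field consists of elementary symmetric functions. -/
theorem exists_esymm {Ω : Type u} [Field Ω] [IsAlgClosed Ω] {a : ℕ → Ω} (ha : a 0 = 1) {p : ℕ}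
    (hp : ∀ i, p < i → a i = 0) : ∃ s : Multiset Ω, Multiset.card s = p ∧ ∀ i, a i = s.esymm i := by
  let q : Polynomial Ω := ∑ i ∈ range (p + 1), Polynomial.C ((-1) ^ i * a i) * Polynomial.X ^ (p - i)
  have hc : ∀ i, i ≤ p → q.coeff (p - i) = (-1) ^ i * a i := fun i hi => by
    rw [Polynomial.finsetSum_coeff, sum_eq_single_of_mem i (mem_range.2 (by omega))]
    · rw [Polynomial.coeff_C_mul_X_pow, if_pos rfl]
    · intro j hj hne
      have := mem_range.1 hj
      rw [Polynomial.coeff_C_mul_X_pow, if_neg (by omega)]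
  have htop : q.coeff p = 1 := by simpa [ha] using hc 0 (Nat.zero_le _)
  have hdeg : q.natDegree = p := by
    refine le_antisymm (Polynomial.natDegree_sum_le_of_forall_le _ _ fun i _ =>
      (Polynomial.natDegree_C_mul_X_pow_le _ _).trans (Nat.sub_le _ _)) ?_
    exact Polynomial.le_natDegree_of_ne_zero (by rw [htop]; exact one_ne_zero)
  have hsp : q.Splits := IsAlgClosed.splits q
  have hcard : Multiset.card q.roots = p := by rw [← hdeg]; exact hsp.natDegree_eq_card_roots.symm
  refine ⟨q.roots, hcard, fun i => ?_⟩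
  rcases le_or_gt i p with hi | hi
  · have h := Polynomial.coeff_eq_esymm_roots_of_card (by rw [hcard, hdeg]) (show p - i ≤ q.natDegree by omega)
    rw [hc i hi, Polynomial.leadingCoeff, hdeg, htop, one_mul, Nat.sub_sub_self hi] at h
    exact ((isUnit_one.neg.pow i).mul_left_cancel h)
  · rw [hp i hi, Multiset.esymm, Multiset.powersetCard_eq_empty _ (by omega)]
    simp

theorem sum_map_mul {R : Type u} [CommRing R] (s t : Multiset R) (k : ℕ) :
    (((s ×ˢ t).map fun x => x.1 * x.2).map fun a => a ^ k).sum =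
      (s.map fun a => a ^ k).sum * (t.map fun a => a ^ k).sum := by
  induction s using Multiset.induction with
  | empty => simp
  | cons a s ih =>
    rw [Multiset.cons_product, Multiset.map_add, Multiset.map_add, Multiset.sum_add, ih, Multiset.map_cons,
      Multiset.sum_cons, add_mul, Multiset.map_map, Multiset.map_map, ← Multiset.sum_map_mul_left]
    simp only [Function.comp_def, mul_pow, Multiset.sum_map_mul_left]

theorem prod_map_mul {R : Type u} [CommRing R] (s t : Multiset R) :
    ((s ×ˢ t).map fun x => x.1 * x.2).prod = s.prod ^ Multiset.card t * t.prod ^ Multiset.card s := by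
  induction s using Multiset.induction with
  | empty => simp
  | cons a s ih =>
    rw [Multiset.cons_product, Multiset.map_add, Multiset.prod_add, ih, Multiset.prod_cons,
      Multiset.card_cons, Multiset.map_map]
    simp only [Function.comp_def]
    rw [Multiset.prod_map_mul, Multiset.map_const', Multiset.prod_replicate, Multiset.map_id', mul_pow, pow_succ]
    ring

include hP in
/-- Products of finite sequences are finite, with the expected top term. -/
theorem mulSeq_finite {a b : ℕ → R} (ha : a 0 = 1) (hb : b 0 = 1) {p q : ℕ} (hp : ∀ i, p < i → a i = 0)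
    (hq : ∀ i, q < i → b i = 0) :
    (∀ n, p * q < n → mulSeq P a b n = 0) ∧ mulSeq P a b (p * q) = a p ^ q * b q ^ p := by
  let A : ℕ → MvPolynomial (Fin p ⊕ Fin q) ℤ :=
    seqOfFin fun i : Fin p => X (Sum.inl i)
  let B : ℕ → MvPolynomial (Fin p ⊕ Fin q) ℤ :=
    seqOfFin fun i : Fin q => X (Sum.inr i)
  let Ω := AlgebraicClosure (FractionRing (MvPolynomial (Fin p ⊕ Fin q) ℤ))
  let j : MvPolynomial (Fin p ⊕ Fin q) ℤ →+* Ω :=
    (algebraMap (FractionRing (MvPolynomial (Fin p ⊕ Fin q) ℤ)) Ω).comp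
      (algebraMap (MvPolynomial (Fin p ⊕ Fin q) ℤ) (FractionRing (MvPolynomial (Fin p ⊕ Fin q) ℤ)))
  have hj : Function.Injective j :=
    ((algebraMap (FractionRing (MvPolynomial (Fin p ⊕ Fin q) ℤ)) Ω).injective).comp
      (IsFractionRing.injective _ _)
  haveI : CharZero Ω := charZero_of_injective_ringHom hj
  have hA : ∀ i, p < i → A i = 0 := fun i hi => by
    simp only [A, seqOfFin, show i ≠ 0 by omega, if_false]
    rw [dif_neg (by omega)]
  have hB : ∀ i, q < i → B i = 0 := fun i hi => by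
    simp only [B, seqOfFin, show i ≠ 0 by omega, if_false]
    rw [dif_neg (by omega)]
  obtain ⟨s, hs, hs'⟩ := exists_esymm (a := fun i => j (A i)) (by simp [A, seqOfFin]) (p := p)
    fun i hi => by simp [hA i hi]
  obtain ⟨t, ht, ht'⟩ := exists_esymm (a := fun i => j (B i)) (by simp [B, seqOfFin]) (p := q)
    fun i hi => by simp [hB i hi]
  have key : ∀ n, j (mulSeq P A B n) = ((s ×ˢ t).map fun x => x.1 * x.2).esymm n := by
    intro n
    rw [map_mulSeq, funext hs', funext ht']
    refine eq_of_gh (mulSeq_zero hP (by simp [Multiset.esymm]) (by simp [Multiset.esymm]))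
      (by simp [Multiset.esymm]) (fun k hk => ?_) n
    rw [gh_mulSeq hP (by simp [Multiset.esymm]) (by simp [Multiset.esymm]) hk,
      ← (newton_esymm s).eq_gh k hk, ← (newton_esymm t).eq_gh k hk,
      ← (newton_esymm ((s ×ˢ t).map fun x => x.1 * x.2)).eq_gh k hk, sum_map_mul]
  have hcard : Multiset.card ((s ×ˢ t).map fun x => x.1 * x.2) = p * q := by simp [hs, ht]
  have htop : ∀ m : Multiset Ω, m.esymm (Multiset.card m) = m.prod := fun m => by
    simp [Multiset.esymm, Multiset.powersetCard_self]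
  have u1 : ∀ n, p * q < n → mulSeq P A B n = 0 := fun n hn => by
    refine hj ?_
    rw [key, map_zero, Multiset.esymm, Multiset.powersetCard_eq_empty _ (by omega)]
    simp
  have u2 : mulSeq P A B (p * q) = A p ^ q * B q ^ p := by
    refine hj ?_
    rw [key, map_mul, map_pow, map_pow, hs' p, ht' q, ← hcard, htop, prod_map_mul, ← htop s, ← htop t, hs, ht]
  let φ : MvPolynomial (Fin p ⊕ Fin q) ℤ →+* R :=
    (aeval (Sum.elim (fun i : Fin p => a (i + 1)) fun i : Fin q => b (i + 1))).toRingHom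
  have hφA : ∀ i, φ (A i) = a i := by
    intro i
    rcases le_or_gt i p with hi | hi
    · exact map_seqOfFin φ _ a ha (fun k => aeval_X _ _) i hi
    · rw [hA i hi, map_zero, hp i hi]
  have hφB : ∀ i, φ (B i) = b i := by
    intro i
    rcases le_or_gt i q with hi | hi
    · exact map_seqOfFin φ _ b hb (fun k => aeval_X _ _) i hi
    · rw [hB i hi, map_zero, hq i hi]
  constructor
  · intro n hn
    have := congrArg φ (u1 n hn)
    rwa [map_mulSeq, funext hφA, funext hφB, map_zero] at this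
  · have := congrArg φ u2
    rwa [map_mulSeq, funext hφA, funext hφB, map_mul, map_pow, map_pow, hφA, hφB] at this

theorem lam_mul_eq_mulSeq {K : Type u} [CommRing K] [LambdaOps K] (hK : IsSpecial K) (x y : K) (n : ℕ) :
    LambdaOps.lam n (x * y) = mulSeq mulPoly (fun i => LambdaOps.lam i x) (fun i => LambdaOps.lam i y) n :=
  hK.lam_mul n _ (isMulPoly_mulPoly n) x y

end Groth.L13.ElemExt
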