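/-
The determinant `e ↦ λ^{ε(e)} e` and the second step of the γ-filtration.
-/
import Groth.Agent.L13.ElemExt.Seq
import Groth.Agent.L08.Lambda.SplitSpecial
import Groth.Agent.L08.Lambda.Rank
import Groth.Agent.L08.Lambda.Pos

set_option autoImplicit false

universe u

namespace Groth.L13.ElemExt

open Finset Groth.L08.Lambda LambdaRing

variable {K : Type u} [CommRing K] [LambdaOps K] (P : PosStructure K)

/-- The determinant of an element. -/
def detElt (e : K) : K := LambdaOps.lam (P.aug e).toNat e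

theorem isUnit_detElt {e : K} (he : e ∈ P.pos) : IsUnit (detElt P e) := P.isUnit_lam e he

theorem detElt_add {e f : K} (he : e ∈ P.pos) (hf : f ∈ P.pos) :
    detElt P (e + f) = detElt P e * detElt P f := by
  obtain ⟨a, ha⟩ := Int.eq_ofNat_of_zero_le (P.aug_pos e he).le
  obtain ⟨b, hb⟩ := Int.eq_ofNat_of_zero_le (P.aug_pos f hf).le
  rw [detElt, detElt, detElt, map_add, ha, hb, ← Nat.cast_add, Int.toNat_natCast, Int.toNat_natCast,
    Int.toNat_natCast, LambdaOps.lam_add, sum_eq_single_of_mem a (mem_range.2 (by omega)),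
    Nat.add_sub_cancel_left]
  intro j hj hne
  rcases lt_or_ge a j with h | h
  · rw [P.lam_eq_zero e he j (by omega), zero_mul]
  · rw [P.lam_eq_zero f hf _ (by omega), mul_zero]

theorem detElt_mul (hK : HasSplitting K P) {e f : K} (he : e ∈ P.pos) (hf : f ∈ P.pos) :
    detElt P (e * f) = detElt P e ^ (P.aug f).toNat * detElt P f ^ (P.aug e).toNat := by
  obtain ⟨a, ha⟩ := Int.eq_ofNat_of_zero_le (P.aug_pos e he).le
  obtain ⟨b, hb⟩ := Int.eq_ofNat_of_zero_le (P.aug_pos f hf).le
  rw [detElt, detElt, detElt, map_mul, ha, hb, ← Nat.cast_mul, Int.toNat_natCast, Int.toNat_natCast,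
    Int.toNat_natCast, lam_mul_eq_mulSeq (isSpecial_of_splitting hK)]
  exact (mulSeq_finite isMulPoly_mulPoly (LambdaOps.lam_zero e) (LambdaOps.lam_zero f)
    (fun i hi => P.lam_eq_zero e he i (by omega)) (fun i hi => P.lam_eq_zero f hf i (by omega))).2

theorem detElt_of_isLine {u : K} (hu : P.IsLine u) : detElt P u = u := by
  rw [detElt, hu.2, Int.toNat_one, LambdaOps.lam_one]

/-- Differences of positive elements with the same determinant. -/
def sameDet : AddSubgroup K where
  carrier := {x | ∃ e f, e ∈ P.pos ∧ f ∈ P.pos ∧ x = e - f ∧ detElt P e = detElt P f}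
  zero_mem' := ⟨((1 : ℕ) : K), ((1 : ℕ) : K), P.natCast_mem 1 one_pos, P.natCast_mem 1 one_pos,
    (sub_self _).symm, rfl⟩
  add_mem' := by
    rintro x y ⟨a, b, ha, hb, rfl, h⟩ ⟨c, d, hc, hd, rfl, h'⟩
    exact ⟨a + c, b + d, P.add_mem _ _ ha hc, P.add_mem _ _ hb hd, by ring,
      by rw [detElt_add P ha hc, detElt_add P hb hd, h, h']⟩
  neg_mem' := by
    rintro x ⟨a, b, ha, hb, rfl, h⟩
    exact ⟨b, a, hb, ha, neg_sub a b, h.symm⟩

theorem detElt_eq_of_mem {e f : K} (he : e ∈ P.pos) (hf : f ∈ P.pos) (h : e - f ∈ sameDet P) :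
    detElt P e = detElt P f := by
  obtain ⟨a, b, ha, hb, hab, hdet⟩ := h
  have e1 : e + b = a + f := by linear_combination hab
  have := congrArg (detElt P) e1
  rw [detElt_add P he hb, detElt_add P ha hf, hdet, mul_comm (detElt P b)] at this
  exact (isUnit_detElt P hb).mul_right_cancel this

theorem mul_mem_sameDet (hK : HasSplitting K P) {x y : K} (hx : P.aug x = 0) (hy : P.aug y = 0) :
    x * y ∈ sameDet P := by
  obtain ⟨a, b, ha, hb, rfl⟩ := P.exists_sub x
  obtain ⟨c, d, hc, hd, rfl⟩ := P.exists_sub y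
  rw [map_sub, sub_eq_zero] at hx hy
  refine ⟨a * c + b * d, a * d + b * c, P.add_mem _ _ (P.mul_mem _ _ ha hc) (P.mul_mem _ _ hb hd),
    P.add_mem _ _ (P.mul_mem _ _ ha hd) (P.mul_mem _ _ hb hc), by ring, ?_⟩
  rw [detElt_add P (P.mul_mem _ _ ha hc) (P.mul_mem _ _ hb hd),
    detElt_add P (P.mul_mem _ _ ha hd) (P.mul_mem _ _ hb hc), detElt_mul P hK ha hc, detElt_mul P hK hb hd,
    detElt_mul P hK ha hd, detElt_mul P hK hb hc, hx, hy]
  ring

/-- Series `1 + ⋯` with coefficients in `J`, and in `J²` from degree two on. -/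
structure Good {R : Type u} [CommRing R] (J : Ideal R) (g : PowerSeries R) : Prop where
  zero : PowerSeries.coeff 0 g = 1
  mem : ∀ i, 1 ≤ i → PowerSeries.coeff i g ∈ J
  mem₂ : ∀ i, 2 ≤ i → PowerSeries.coeff i g ∈ J * J

theorem Good.one {R : Type u} [CommRing R] (J : Ideal R) : Good J (1 : PowerSeries R) :=
  ⟨by simp, fun i hi => by simp [PowerSeries.coeff_one, show i ≠ 0 by omega],
    fun i hi => by simp [PowerSeries.coeff_one, show i ≠ 0 by omega]⟩

theorem Good.mul {R : Type u} [CommRing R] {J : Ideal R} {g g' : PowerSeries R} (h : Good J g) (h' : Good J g') :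
    Good J (g * g') := by
  refine ⟨?_, fun i hi => ?_, fun i hi => ?_⟩
  · simp [PowerSeries.coeff_mul, h.zero, h'.zero]
  all_goals
    rw [PowerSeries.coeff_mul]
    refine sum_mem fun p hp => ?_
    rw [HasAntidiagonal.mem_antidiagonal] at hp
  · rcases Nat.eq_zero_or_pos p.1 with h1 | h1
    · exact J.mul_mem_left _ (h'.mem _ (by omega))
    · exact J.mul_mem_right _ (h.mem _ h1)
  · rcases Nat.eq_zero_or_pos p.1 with h1 | h1
    · exact (J * J).mul_mem_left _ (h'.mem₂ _ (by omega))
    · rcases Nat.eq_zero_or_pos p.2 with h2 | h2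
      · exact (J * J).mul_mem_right _ (h.mem₂ _ (by omega))
      · exact Ideal.mul_mem_mul (h.mem _ h1) (h'.mem _ h2)

theorem Good.of_mul_eq_one {R : Type u} [CommRing R] {J : Ideal R} {g g' : PowerSeries R} (h : Good J g)
    (hgg : g' * g = 1) : Good J g' := by
  have h0 : PowerSeries.coeff 0 g' = 1 := by
    simpa [PowerSeries.coeff_mul, h.zero] using congrArg (PowerSeries.coeff 0) hgg
  have key : ∀ i, (1 ≤ i → PowerSeries.coeff i g' ∈ J) ∧ (2 ≤ i → PowerSeries.coeff i g' ∈ J * J) := by
    intro i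
    induction i using Nat.strong_induction_on with
    | _ i ih =>
      rcases Nat.eq_zero_or_pos i with rfl | hi
      · exact ⟨by omega, by omega⟩
      have e := congrArg (PowerSeries.coeff i) hgg
      rw [PowerSeries.coeff_mul, Finset.Nat.sum_antidiagonal_eq_sum_range_succ_mk, sum_range_succ,
        Nat.sub_self, h.zero, mul_one, PowerSeries.coeff_one, if_neg (by omega)] at e
      rw [eq_neg_of_add_eq_zero_right e]
      refine ⟨fun _ => neg_mem (sum_mem fun j hj => J.mul_mem_left _ (h.mem _ (by have := mem_range.1 hj; omega))),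
        fun h2 => neg_mem (sum_mem fun j hj => ?_)⟩
      have := mem_range.1 hj
      rcases Nat.eq_zero_or_pos j with rfl | hj0
      · exact (J * J).mul_mem_left _ (h.mem₂ _ (by omega))
      · exact Ideal.mul_mem_mul ((ih j this).1 hj0) (h.mem _ (by omega))
  exact ⟨h0, fun i => (key i).1, fun i => (key i).2⟩

theorem good_gamma (hK : HasSplitting K P) {x : K} (hx : P.aug x = 0) :
    ∃ (L : Type u) (_ : CommRing L) (_ : LambdaOps L) (Q : PosStructure L) (f : K →+* L),
      IsExtension P Q f ∧ HasSplitting L Q ∧ Good (RingHom.ker Q.aug) (PowerSeries.map f (gammaSeries x)) := by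
  obtain ⟨a, b, ha, hb, rfl⟩ := P.exists_sub x
  obtain ⟨L₁, _, _, Q₁, f₁, s, hf₁, hL₁, hs, hsum, hscard, -⟩ := L22.Lambda.exists_splitting P hK ha
  obtain ⟨L, _, _, Q, f₂, t, hf₂, hL, ht, htsum, htcard, -⟩ :=
    L22.Lambda.exists_splitting Q₁ hL₁ (hf₁.pos_subset b hb)
  have hf : IsExtension P Q (f₂.comp f₁) := ⟨fun k z => by
      rw [RingHom.comp_apply, RingHom.comp_apply, hf₁.isLambdaHom k z, hf₂.isLambdaHom k (f₁ z)],
    hf₂.injective.comp hf₁.injective, fun z => (hf₂.aug_comp _).trans (hf₁.aug_comp z),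
    fun z hz => hf₂.pos_subset _ (hf₁.pos_subset z hz)⟩
  refine ⟨L, inferInstance, inferInstance, Q, f₂.comp f₁, hf, hL, ?_⟩
  have hmap : PowerSeries.map (f₂.comp f₁) (gammaSeries (a - b)) = gammaSeries (f₂ (f₁ a) - f₂ (f₁ b)) := by
    ext i
    rw [PowerSeries.coeff_map, coeff_gammaSeries, coeff_gammaSeries, ← map_sub, ← map_sub]
    have hl := hf.isLambdaHom
    unfold gamma
    split_ifs
    · simp
    · rw [map_sum]
      refine sum_congr rfl fun j _ => ?_
      rw [map_mul, map_natCast]
      split_ifs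
      · simp
      · rw [hl]; rfl
  have h1 := fun k hk => L22.Lambda.lam_eq_zero_of_isLine Q (L22.Lambda.isLine_one Q) (i := k) hk
  have good : ∀ w : Multiset L, (∀ u ∈ w, Q.IsLine u) →
      Good (RingHom.ker Q.aug) (gammaSeries (w.map fun u => u - 1).sum) := by
    intro w hw
    rw [gammaSeries_multiset_sum, Multiset.map_map]
    refine Multiset.prod_induction _ _ (fun _ _ => Good.mul) (Good.one _) fun g hg => ?_
    obtain ⟨u, hu, rfl⟩ := Multiset.mem_map.1 hg
    simp only [Function.comp_apply]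
    rw [gammaSeries_sub_one h1 fun j hj => L22.Lambda.lam_eq_zero_of_isLine Q (hw u hu) hj]
    refine ⟨by simp, fun i hi => ?_, fun i hi => ?_⟩
    · rw [L22.Lambda.coeff_one_add_C_mul_X, if_neg (by omega)]
      split_ifs
      · rw [RingHom.mem_ker, map_sub, (hw u hu).2, map_one, sub_self]
      · exact zero_mem _
    · rw [L22.Lambda.coeff_one_add_C_mul_X, if_neg (by omega), if_neg (by omega)]
      exact zero_mem _
  have hst : ∀ u ∈ s.map f₂, Q.IsLine u := fun u hu => by
    obtain ⟨w, hw, rfl⟩ := Multiset.mem_map.1 hu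
    exact ⟨hf₂.pos_subset _ (hs w hw).1, (hf₂.aug_comp w).trans (hs w hw).2⟩
  have hdiff : f₂ (f₁ a) - f₂ (f₁ b) = ((s.map f₂).map fun u => u - 1).sum - (t.map fun u => u - 1).sum := by
    have hcard : Multiset.card s = Multiset.card t := by
      rw [hf₁.aug_comp] at htcard
      rw [map_sub, sub_eq_zero] at hx
      omega
    rw [Multiset.sum_map_sub, Multiset.sum_map_sub, Multiset.map_id', Multiset.map_id', Multiset.map_const',
      Multiset.map_const', Multiset.card_map, hcard, ← hsum, map_multiset_sum, ← htsum]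
    ring
  rw [hmap, hdiff]
  refine (show Good _ (gammaSeries _) from ?_)
  have e := gammaSeries_add (((s.map f₂).map fun u => u - 1).sum - (t.map fun u => u - 1).sum)
    (t.map fun u => u - 1).sum
  rw [sub_add_cancel] at e
  obtain ⟨g, hg⟩ : IsUnit (gammaSeries (t.map fun u => u - 1).sum) := by
    rw [PowerSeries.isUnit_iff_constantCoeff, ← PowerSeries.coeff_zero_eq_constantCoeff_apply,
      (good t ht).zero]
    exact isUnit_one
  have hinv : Good (RingHom.ker Q.aug) (↑g⁻¹ : PowerSeries L) :=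
    (good t ht).of_mul_eq_one (by rw [← hg, Units.inv_mul])
  have hmul := (good _ hst).mul hinv
  rwa [e, ← hg, mul_assoc, Units.mul_inv, mul_one] at hmul

theorem aug_gamma (hK : HasSplitting K P) {x : K} (hx : P.aug x = 0) {i : ℕ} (hi : 1 ≤ i) :
    P.aug (gamma i x) = 0 := by
  obtain ⟨L, _, _, Q, f, hf, -, hg⟩ := good_gamma P hK hx
  have := hg.mem i hi
  rw [PowerSeries.coeff_map, coeff_gammaSeries, RingHom.mem_ker, hf.aug_comp] at this
  exact this

theorem gamma_mem_sameDet (hK : HasSplitting K P) {x : K} (hx : P.aug x = 0) {i : ℕ} (hi : 2 ≤ i) :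
    gamma i x ∈ sameDet P := by
  obtain ⟨L, _, _, Q, f, hf, hL, hg⟩ := good_gamma P hK hx
  have h2 : f (gamma i x) ∈ sameDet Q := by
    have := hg.mem₂ i hi
    rw [PowerSeries.coeff_map, coeff_gammaSeries] at this
    refine Submodule.mul_induction_on this (fun a ha b hb => mul_mem_sameDet Q hL ha hb) fun a b ha hb => add_mem ha hb
  obtain ⟨a, b, ha, hb, hab⟩ := P.exists_sub (gamma i x)
  refine ⟨a, b, ha, hb, hab, hf.injective ?_⟩
  rw [hab, map_sub] at h2
  have := detElt_eq_of_mem Q (hf.pos_subset a ha) (hf.pos_subset b hb) h2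
  rwa [detElt, detElt, hf.aug_comp, hf.aug_comp, ← hf.isLambdaHom, ← hf.isLambdaHom] at this

theorem gammaFiltration_two_le (hK : HasSplitting K P) : gammaFiltration P 2 ≤ sameDet P := by
  rw [gammaFiltration, if_neg (by omega), AddSubgroup.closure_le]
  rintro y ⟨l, hl, hw, rfl⟩
  suffices key : ∀ l : List (ℕ × K), (∀ p ∈ l, P.aug p.2 = 0) →
      ((l.map Prod.fst).sum = 0 → (l.map fun p => gamma p.1 p.2).prod = 1) ∧
        (1 ≤ (l.map Prod.fst).sum → P.aug (l.map fun p => gamma p.1 p.2).prod = 0) ∧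
        (2 ≤ (l.map Prod.fst).sum → (l.map fun p => gamma p.1 p.2).prod ∈ sameDet P) from
    (key l hl).2.2 hw
  intro l
  induction l with
  | nil => intro _; simp
  | cons p l ih =>
    intro hl
    obtain ⟨i0, i1, i2⟩ := ih fun q hq => hl q (List.mem_cons_of_mem _ hq)
    have hp := hl p (List.mem_cons_self ..)
    simp only [List.map_cons, List.sum_cons, List.prod_cons]
    rcases Nat.eq_zero_or_pos p.1 with h | h
    · rw [h, gamma_zero, zero_add, one_mul]
      exact ⟨i0, i1, i2⟩
    · refine ⟨by omega, fun _ => by rw [map_mul, aug_gamma P hK hp h, zero_mul], fun h2 => ?_⟩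
      rcases Nat.eq_zero_or_pos (l.map Prod.fst).sum with hs | hs
      · rw [i0 hs, mul_one]
        exact gamma_mem_sameDet P hK hp (by omega)
      · exact mul_mem_sameDet P hK (aug_gamma P hK hp h) (i1 hs)

theorem sum_gamma_rank {e : K} (he : e ∈ P.pos) {r : ℕ} (hr : P.aug e = r) :
    ∑ n ∈ range (r + 1), gamma n (e - (r : K)) = LambdaOps.lam r e := by
  have h1 := fun k hk => L22.Lambda.lam_eq_zero_of_isLine P (L22.Lambda.isLine_one P) (i := k) hk
  let q : Polynomial K := ∑ j ∈ range (r + 1),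
    Polynomial.C (LambdaOps.lam j e) * (Polynomial.X ^ j * (1 - Polynomial.X) ^ (r - j))
  have hq : gammaSeries (e - (r : K)) = (q : PowerSeries K) := by
    rw [gammaSeries_rank h1 fun k hk => P.lam_eq_zero e he k (by omega), ← Polynomial.coeToPowerSeries.ringHom_apply,
      map_sum]
    simp
  have hdeg : q.natDegree ≤ r := by
    refine Polynomial.natDegree_sum_le_of_forall_le _ _ fun j hj => ?_
    have := mem_range.1 hj
    refine (Polynomial.natDegree_C_mul_le _ _).trans (Polynomial.natDegree_mul_le.trans ?_)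
    have h2 : ((1 - Polynomial.X : Polynomial K) ^ (r - j)).natDegree ≤ r - j := by
      refine Polynomial.natDegree_pow_le.trans ((Nat.mul_le_mul le_rfl ?_).trans (Nat.mul_one _).le)
      exact (Polynomial.natDegree_sub_le _ _).trans (max_le (by simp) Polynomial.natDegree_X_le)
    have := Polynomial.natDegree_X_pow_le (R := K) j
    omega
  calc ∑ n ∈ range (r + 1), gamma n (e - (r : K)) = ∑ n ∈ range (r + 1), q.coeff n * 1 ^ n := by
        refine sum_congr rfl fun n _ => ?_
        rw [← coeff_gammaSeries, hq, Polynomial.coeff_coe, one_pow, mul_one]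
    _ = q.eval 1 := (Polynomial.eval_eq_sum_range' (by omega) 1).symm
    _ = _ := by
        rw [Polynomial.eval_finsetSum, sum_eq_single_of_mem r (mem_range.2 (by omega))]
        · simp
        · intro j hj hne
          have := mem_range.1 hj
          simp [zero_pow (show r - j ≠ 0 by omega)]

end Groth.L13.ElemExt
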