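/-
The γ-filtration of an elementary extension.
-/
import Groth.Agent.L13.ElemExt.Seq
import Groth.Agent.L13.ElemExt.Det
import Groth.Agent.L08.Lambda.SplitSpecial
import Groth.Agent.L08.Lambda.Rank
import Groth.Agent.L08.Lambda.Pos
import Groth.Agent.L08.Lambda.Transfer
import Groth.Agent.L22.Sigma

set_option autoImplicit false

universe u

namespace Groth.L13.ElemExt

open Finset Groth.L08.Lambda LambdaRing

variable {A : Type u} [CommRing A] [LambdaOps A]

theorem gamma_succ' (j : ℕ) (x : A) :
    gamma (j + 1) x = ∑ i ∈ range (j + 1), (j.choose i : A) * LambdaOps.lam (i + 1) x := by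
  rw [gamma_succ_eq, sum_range_succ]
  simp

/-- The γ-operations of a line multiple. -/
theorem gamma_succ_line_mul (u x : A) (h : ∀ i, LambdaOps.lam i (u * x) = u ^ i * LambdaOps.lam i x) (N : ℕ) :
    gamma (N + 1) (u * x) =
      ∑ j ∈ range (N + 1), (-(u - 1)) ^ (N - j) * u ^ (j + 1) * (N.choose j : A) * gamma (j + 1) x := by
  have e : ∀ j ∈ range (N + 1), (-(u - 1)) ^ (N - j) * u ^ (j + 1) * (N.choose j : A) * gamma (j + 1) x =
      ∑ i ∈ range (N + 1), ((-(u - 1)) ^ (N - j) * u ^ (j + 1) * ((N.choose j * j.choose i : ℕ) : A)) *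
        LambdaOps.lam (i + 1) x := by
    intro j hj
    have := mem_range.1 hj
    rw [gamma_succ', mul_sum]
    rw [sum_subset (s₁ := range (j + 1)) (s₂ := range (N + 1)) (range_mono (by omega)) fun i _ hi => by
      rw [Nat.choose_eq_zero_of_lt (show j < i by simpa using hi)]
      simp]
    exact sum_congr rfl fun i _ => by push_cast; ring
  rw [sum_congr rfl e, sum_comm, gamma_succ']
  refine sum_congr rfl fun i hi => ?_
  have := mem_range.1 hi
  rw [← sum_mul, h, show N + 1 = i + (N - i + 1) by omega, sum_range_add,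
    sum_eq_zero (s := range i) fun j hj => by rw [Nat.choose_eq_zero_of_lt (mem_range.1 hj)]; simp, zero_add]
  have e2 : ∀ t ∈ range (N - i + 1),
      (-(u - 1)) ^ (N - (i + t)) * u ^ (i + t + 1) * ((N.choose (i + t) * (i + t).choose i : ℕ) : A) =
        (N.choose i : A) * u ^ (i + 1) * (u ^ t * (-(u - 1)) ^ (N - i - t) * ((N - i).choose t : A)) := by
    intro t _
    rw [Nat.choose_mul (Nat.le_add_right i t), Nat.add_sub_cancel_left, Nat.sub_sub]
    push_cast
    ring
  rw [sum_congr rfl e2, ← mul_sum, ← add_pow, show u + -(u - 1) = 1 by ring, one_pow]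
  ring

section Ext

variable {K : Type u} [CommRing K] [LambdaOps K] (P : PosStructure K) {e : K} (he : e ∈ P.pos) {r : ℕ}
  (hr : P.aug e = r + 1)

/-- `ℓ - 1`. -/
noncomputable abbrev vElt : AdjoinRoot (KRR.extPoly P e) := AdjoinRoot.root (KRR.extPoly P e) - 1

/-- `Σ_{i ≤ r} F^{k-i} (ℓ-1)^i`. -/
noncomputable def extFil (e : K) (r k : ℕ) : AddSubgroup (AdjoinRoot (KRR.extPoly P e)) :=
  ⨆ i ∈ Finset.range (r + 1), AddSubgroup.map
    ((AddMonoidHom.mulRight ((AdjoinRoot.root (KRR.extPoly P e) - 1) ^ i)).comp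
      (AdjoinRoot.of (KRR.extPoly P e)).toAddMonoidHom)
    (gammaFiltration P (k - i))

theorem mem_extFil {k i : ℕ} (hi : i ≤ r) {a : K} (ha : a ∈ gammaFiltration P (k - i)) :
    AdjoinRoot.of _ a * vElt P (e := e) ^ i ∈ extFil P e r k :=
  AddSubgroup.mem_iSup_of_mem i (AddSubgroup.mem_iSup_of_mem (mem_range.2 (by omega)) ⟨a, ha, rfl⟩)

theorem of_mem_extFil {k : ℕ} {a : K} (ha : a ∈ gammaFiltration P k) :
    AdjoinRoot.of _ a ∈ extFil P e r k := by
  simpa using mem_extFil P (e := e) (r := r) (k := k) (i := 0) (Nat.zero_le r) (by simpa using ha)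

theorem extFil_le_iff {k : ℕ} {S : AddSubgroup (AdjoinRoot (KRR.extPoly P e))} :
    extFil P e r k ≤ S ↔ ∀ i, i ≤ r → ∀ a ∈ gammaFiltration P (k - i),
      AdjoinRoot.of _ a * vElt P (e := e) ^ i ∈ S := by
  simp only [extFil, iSup_le_iff, mem_range, Nat.lt_succ_iff, AddSubgroup.map_le_iff_le_comap]
  rfl

theorem extFil_antitone {j k : ℕ} (h : j ≤ k) : extFil P e r k ≤ extFil P e r j :=
  (extFil_le_iff P).2 fun _ hi _ ha => mem_extFil P hi (gammaFiltration_antitone P (by omega) ha)

include he hr in
theorem vElt_pow_rel :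
    ∑ n ∈ range (r + 2), AdjoinRoot.of (KRR.extPoly P e) ((-1) ^ n * gamma n (e - ((r + 1 : ℕ) : K))) *
      vElt P (e := e) ^ (r + 1 - n) = 0 := by
  have h1 := fun k hk => L22.Lambda.lam_eq_zero_of_isLine P (L22.Lambda.isLine_one P) (i := k) hk
  rw [← L22.Lambda.root_rel P hr]
  set ℓ := AdjoinRoot.root (KRR.extPoly P e)
  set g := AdjoinRoot.of (KRR.extPoly P e)
  have lhs : ∀ n ∈ range (r + 2), g ((-1) ^ n * gamma n (e - ((r + 1 : ℕ) : K))) * (ℓ - 1) ^ (r + 1 - n) =
      ∑ j ∈ range (r + 2), if j ≤ n then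
        g ((-1) ^ j * LambdaOps.lam j e) * (((r + 1 - j).choose (n - j) : AdjoinRoot (KRR.extPoly P e)) *
          (ℓ - 1) ^ (r + 1 - n)) else 0 := by
    intro n _
    rw [coeff_gamma_rank h1 (fun k hk => P.lam_eq_zero e he k (by omega)), mul_sum, map_sum, sum_mul]
    refine sum_congr rfl fun j _ => ?_
    split_ifs with h
    · obtain ⟨d, rfl⟩ : ∃ d, n = j + d := ⟨n - j, by omega⟩
      simp only [Nat.add_sub_cancel_left, map_mul, map_pow, map_neg, map_one, map_natCast, pow_add]
      have : ((-1 : AdjoinRoot (KRR.extPoly P e)) ^ d) * (-1) ^ d = 1 := by rw [← mul_pow]; simp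
      linear_combination (g (LambdaOps.lam j e) * ((r + 1 - j).choose d : AdjoinRoot (KRR.extPoly P e)) *
        (ℓ - 1) ^ (r + 1 - (j + d)) * (-1) ^ j) * this
    · simp
  rw [sum_congr rfl lhs, sum_comm]
  refine sum_congr rfl fun j hj => ?_
  have := mem_range.1 hj
  rw [show r + 2 = j + (r + 1 - j + 1) by omega, sum_range_add,
    sum_eq_zero (s := range j) fun n hn => if_neg (by have := mem_range.1 hn; omega), zero_add]
  conv_rhs => rw [show ℓ = (ℓ - 1) + 1 by ring, add_comm (ℓ - 1) 1, add_pow, mul_sum]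
  refine sum_congr rfl fun t _ => ?_
  rw [if_pos (by omega), one_pow, one_mul, Nat.add_sub_cancel_left, Nat.sub_sub]
  ring

include he hr in
theorem extFil_mul_vElt {k : ℕ} {x : AdjoinRoot (KRR.extPoly P e)} (hx : x ∈ extFil P e r k) :
    x * vElt P ∈ extFil P e r (k + 1) := by
  have key : extFil P e r k ≤ (extFil P e r (k + 1)).comap (AddMonoidHom.mulRight (vElt P)) := by
    refine (extFil_le_iff P).2 fun i hi a ha => ?_
    change AdjoinRoot.of _ a * vElt P (e := e) ^ i * vElt P ∈ extFil P e r (k + 1)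
    rw [mul_assoc, ← pow_succ]
    rcases lt_or_eq_of_le hi with hi | rfl
    · exact mem_extFil P hi (by simpa [Nat.add_sub_add_right] using ha)
    have h := vElt_pow_rel P he hr
    rw [sum_range_succ', gamma_zero, pow_zero, mul_one, map_one, one_mul, Nat.sub_zero] at h
    rw [eq_neg_of_add_eq_zero_right h, mul_neg, mul_sum]
    refine neg_mem (sum_mem fun n hn => ?_)
    have hn' := mem_range.1 hn
    rw [← mul_assoc, ← map_mul]
    refine mem_extFil P (by omega) ?_
    have hg : (-1) ^ (n + 1) * gamma (n + 1) (e - ((i + 1 : ℕ) : K)) ∈ gammaFiltration P (n + 1) := by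
      refine smul_mem_gammaFiltration P _ _ ?_
      simpa using prod_mem_gammaFiltration P [(n + 1, e - ((i + 1 : ℕ) : K))]
        (fun p hp => by simp only [List.mem_singleton] at hp; subst hp; simp [hr]) (n + 1) (by simp)
    exact gammaFiltration_antitone P (by omega) (mul_mem_gammaFiltration P ha hg)
  exact key hx

include he hr in
theorem extFil_mul {j k : ℕ} {x y : AdjoinRoot (KRR.extPoly P e)} (hx : x ∈ extFil P e r j)
    (hy : y ∈ extFil P e r k) : x * y ∈ extFil P e r (j + k) := by
  have hpow : ∀ i, y * vElt P ^ i ∈ extFil P e r (k + i) := fun i => by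
    induction i with
    | zero => simpa using hy
    | succ i ih => rw [pow_succ, ← mul_assoc, ← Nat.add_assoc]; exact extFil_mul_vElt P he hr ih
  have key : extFil P e r j ≤ (extFil P e r (j + k)).comap (AddMonoidHom.mulRight y) := by
    refine (extFil_le_iff P).2 fun i hi a ha => ?_
    change AdjoinRoot.of _ a * vElt P (e := e) ^ i * y ∈ extFil P e r (j + k)
    have h2 : extFil P e r (k + i) ≤
        (extFil P e r (j + k)).comap (AddMonoidHom.mulLeft (AdjoinRoot.of _ a)) := by
      refine (extFil_le_iff P).2 fun l hl b hb => ?_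
      change AdjoinRoot.of _ a * (AdjoinRoot.of _ b * vElt P (e := e) ^ l) ∈ extFil P e r (j + k)
      rw [← mul_assoc, ← map_mul]
      exact mem_extFil P hl (gammaFiltration_antitone P (by omega) (mul_mem_gammaFiltration P ha hb))
    rw [mul_assoc, mul_comm (vElt P ^ i) y]
    exact h2 (hpow i)
  exact key hx

theorem one_mem_extFil : (1 : AdjoinRoot (KRR.extPoly P e)) ∈ extFil P e r 0 := by
  rw [← map_one (AdjoinRoot.of (KRR.extPoly P e))]
  exact of_mem_extFil P (by simp [gammaFiltration])

include he hr in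
theorem extFil_zero (z : AdjoinRoot (KRR.extPoly P e)) : z ∈ extFil P e r 0 := by
  have hof : ∀ a : K, AdjoinRoot.of _ a ∈ extFil P e r 0 := fun a => of_mem_extFil P (by simp [gammaFiltration])
  have hl : AdjoinRoot.root (KRR.extPoly P e) ∈ extFil P e r 0 := by
    rw [show AdjoinRoot.root (KRR.extPoly P e) = 1 * vElt P + 1 by ring]
    exact add_mem (extFil_antitone P (Nat.zero_le 1) (extFil_mul_vElt P he hr (one_mem_extFil P)))
      (one_mem_extFil P)
  obtain ⟨p, rfl⟩ := AdjoinRoot.mk_surjective z
  induction p using Polynomial.induction_on with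
  | C a => rw [AdjoinRoot.mk_C]; exact hof a
  | add p q hp hq => rw [map_add]; exact add_mem hp hq
  | monomial n a h =>
    rw [pow_succ, ← mul_assoc, map_mul, AdjoinRoot.mk_X]
    simpa using extFil_mul P he hr (j := 0) (k := 0) h hl

section Lam

variable [LambdaOps (AdjoinRoot (KRR.extPoly P e))] (Q : PosStructure (AdjoinRoot (KRR.extPoly P e)))
  (hext : IsExtension P Q (AdjoinRoot.of (KRR.extPoly P e))) (hsplit : HasSplitting _ Q)
  (hline : Q.IsLine (AdjoinRoot.root (KRR.extPoly P e)))

include hext in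
theorem gamma_of (n : ℕ) (a : K) :
    gamma n (AdjoinRoot.of (KRR.extPoly P e) a) = AdjoinRoot.of _ (gamma n a) := by
  unfold gamma
  split_ifs
  · simp
  · rw [map_sum]
    refine sum_congr rfl fun j _ => ?_
    rw [map_mul, map_natCast]
    split_ifs
    · simp
    · rw [hext.isLambdaHom]

/-- Elements whose γ-operations lie in the expected steps. -/
def gammaInFil : Set (AdjoinRoot (KRR.extPoly P e)) :=
  {x | ∀ n, gamma n x ∈ extFil P e r n}

include he hr in
theorem gammaInFil_add {x y : AdjoinRoot (KRR.extPoly P e)} (hx : x ∈ gammaInFil P (r := r))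
    (hy : y ∈ gammaInFil P (r := r)) : x + y ∈ gammaInFil P (r := r) := fun n => by
  rw [gamma_add]
  refine sum_mem fun i hi => ?_
  have h := extFil_mul P he hr (hx i) (hy (n - i))
  rwa [Nat.add_sub_cancel' (by have := mem_range.1 hi; omega)] at h

theorem gammaInFil_zero : (0 : AdjoinRoot (KRR.extPoly P e)) ∈ gammaInFil P (r := r) := fun n => by
  rcases Nat.eq_zero_or_pos n with rfl | hn
  · rw [gamma_zero]; exact one_mem_extFil P
  · rw [gamma_zero_arg n hn]; exact zero_mem _

include he hr in
theorem gammaInFil_neg {x : AdjoinRoot (KRR.extPoly P e)} (hx : x ∈ gammaInFil P (r := r)) :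
    -x ∈ gammaInFil P (r := r) := fun n => by
  induction n using Nat.strong_induction_on with
  | _ n ih =>
    rcases Nat.eq_zero_or_pos n with rfl | hn
    · rw [gamma_zero]; exact one_mem_extFil P
    have h := gamma_add n x (-x)
    rw [add_neg_cancel, gamma_zero_arg n hn, sum_range_succ', gamma_zero, one_mul, Nat.sub_zero, eq_comm] at h
    rw [eq_neg_of_add_eq_zero_right h]
    refine neg_mem (sum_mem fun i hi => ?_)
    have := mem_range.1 hi
    have h2 := extFil_mul P he hr (hx (i + 1)) (ih (n - (i + 1)) (by omega))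
    rwa [Nat.add_sub_cancel' (by omega)] at h2

include he hr hline in
theorem gammaInFil_pow_sub_one (k : ℕ) :
    AdjoinRoot.root (KRR.extPoly P e) ^ k - 1 ∈ gammaInFil P (r := r) := fun n => by
  set ℓ := AdjoinRoot.root (KRR.extPoly P e)
  have h1 := fun j hj => L22.Lambda.lam_eq_zero_of_isLine Q (L22.Lambda.isLine_one Q) (i := j) hj
  rw [← coeff_gammaSeries, gammaSeries_sub_one h1
    fun j hj => L22.Lambda.lam_eq_zero_of_isLine Q (L22.Lambda.isLine_pow Q hline k) hj,
    L22.Lambda.coeff_one_add_C_mul_X]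
  split_ifs with h h'
  · subst h; exact one_mem_extFil P
  · subst h'
    rw [← geom_sum_mul]
    have := extFil_mul_vElt P he hr (extFil_zero P he hr (∑ i ∈ range k, ℓ ^ i))
    exact this
  · exact zero_mem _

include he hr hext hsplit hline in
theorem gammaInFil_of_mul_pow {a : K} (ha : P.aug a = 0) (k : ℕ) :
    AdjoinRoot.root (KRR.extPoly P e) ^ k * AdjoinRoot.of (KRR.extPoly P e) a ∈ gammaInFil P (r := r) := by
  intro n
  rcases Nat.eq_zero_or_pos n with rfl | hn
  · rw [gamma_zero]; exact one_mem_extFil P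
  obtain ⟨N, rfl⟩ : ∃ N, n = N + 1 := ⟨n - 1, by omega⟩
  set u := AdjoinRoot.root (KRR.extPoly P e) ^ k with hu
  have hlu : ∀ i, LambdaOps.lam i u = lineSeq u i := fun i => by
    rcases i with - | - | i
    · simp [LambdaOps.lam_zero, lineSeq]
    · simp [LambdaOps.lam_one, lineSeq]
    · simp [lineSeq, L22.Lambda.lam_eq_zero_of_isLine Q (L22.Lambda.isLine_pow Q hline k) (i := i + 2) (by omega), hu]
  rw [gamma_succ_line_mul u _ fun i => by
    rw [mul_comm u, lam_mul_eq_mulSeq (isSpecial_of_splitting hsplit),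
      mulSeq_congr (a' := fun j => LambdaOps.lam j (AdjoinRoot.of (KRR.extPoly P e) a)) (fun _ => rfl) hlu,
      mulSeq_lineSeq isMulPoly_mulPoly (a := fun j => LambdaOps.lam j (AdjoinRoot.of (KRR.extPoly P e) a)) (LambdaOps.lam_zero _)]]
  refine sum_mem fun j hj => ?_
  have := mem_range.1 hj
  rw [gamma_of P Q hext]
  have hy : -(u - 1) ∈ extFil P e r 1 := by
    have := gammaInFil_pow_sub_one P he hr Q hline k 1
    rw [gamma_one] at this
    exact neg_mem this
  have hpow : ∀ d, (-(u - 1)) ^ d ∈ extFil P e r d := fun d => by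
    induction d with
    | zero => simpa using one_mem_extFil P
    | succ d ih => rw [pow_succ]; exact extFil_mul P he hr ih hy
  have hA : (-(u - 1)) ^ (N - j) * u ^ (j + 1) * (N.choose j : AdjoinRoot (KRR.extPoly P e)) ∈
      extFil P e r (N - j) := by
    rw [mul_assoc]
    simpa using extFil_mul P he hr (hpow (N - j)) (extFil_zero P he hr (u ^ (j + 1) * (N.choose j : AdjoinRoot (KRR.extPoly P e))))
  have hg : gamma (j + 1) a ∈ gammaFiltration P (j + 1) := by
    simpa using prod_mem_gammaFiltration P [(j + 1, a)]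
      (fun p hp => by simp only [List.mem_singleton] at hp; subst hp; exact ha) (j + 1) (by simp)
  have := extFil_mul P he hr hA (of_mem_extFil P hg)
  rwa [show N - j + (j + 1) = N + 1 by omega] at this

include he hr hext hsplit hline in
theorem sub_aug_mem_gammaInFil (z : AdjoinRoot (KRR.extPoly P e)) :
    z - (Q.aug z : AdjoinRoot (KRR.extPoly P e)) ∈ gammaInFil P (r := r) := by
  let S : AddSubgroup (AdjoinRoot (KRR.extPoly P e)) :=
    { carrier := gammaInFil P (r := r)
      zero_mem' := gammaInFil_zero P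
      add_mem' := gammaInFil_add P he hr
      neg_mem' := gammaInFil_neg P he hr }
  change _ ∈ S
  obtain ⟨p, rfl⟩ := AdjoinRoot.mk_surjective z
  induction p using Polynomial.induction_on' with
  | add p q hp hq =>
    have := add_mem hp hq
    simp only [map_add, Int.cast_add]
    rwa [show ∀ a b c d : AdjoinRoot (KRR.extPoly P e), a + b - (c + d) = a - c + (b - d) from fun a b c d => by ring]
  | monomial k a =>
    set ℓ := AdjoinRoot.root (KRR.extPoly P e)
    rw [← Polynomial.C_mul_X_pow_eq_monomial, map_mul, map_pow, AdjoinRoot.mk_X, AdjoinRoot.mk_C, map_mul, map_pow,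
      hline.2, one_pow, mul_one, hext.aug_comp]
    have e1 : AdjoinRoot.of (KRR.extPoly P e) a * ℓ ^ k - (P.aug a : AdjoinRoot (KRR.extPoly P e)) =
        ℓ ^ k * AdjoinRoot.of (KRR.extPoly P e) (a - (P.aug a : K)) + P.aug a • (ℓ ^ k - 1) := by
      rw [map_sub, map_intCast, zsmul_eq_mul]; ring
    rw [e1]
    exact add_mem (gammaInFil_of_mul_pow P he hr Q hext hsplit hline (by simp) k)
      (zsmul_mem (show ℓ ^ k - 1 ∈ S from gammaInFil_pow_sub_one P he hr Q hline k) _)

include he hr hext hsplit hline in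
theorem gammaFiltration_ext_eq (k : ℕ) : gammaFiltration Q k = extFil P e r k := by
  refine le_antisymm ?_ ?_
  · rcases Nat.eq_zero_or_pos k with rfl | hk
    · exact fun z _ => extFil_zero P he hr z
    rw [gammaFiltration, if_neg (by omega), AddSubgroup.closure_le]
    rintro y ⟨l, hl, hw, rfl⟩
    refine extFil_antitone P hw ?_
    clear hw
    induction l with
    | nil => simpa using one_mem_extFil P
    | cons p l ih =>
      simp only [List.map_cons, List.sum_cons, List.prod_cons]
      refine extFil_mul P he hr ?_ (ih fun q hq => hl q (List.mem_cons_of_mem _ hq))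
      have := sub_aug_mem_gammaInFil P he hr Q hext hsplit hline p.2 p.1
      rwa [hl p (List.mem_cons_self ..), Int.cast_zero, sub_zero] at this
  · refine (extFil_le_iff P).2 fun i _ a ha => ?_
    have hmap : ∀ j, gammaFiltration P j ≤ (gammaFiltration Q j).comap (AdjoinRoot.of (KRR.extPoly P e)).toAddMonoidHom := by
      intro j
      rcases Nat.eq_zero_or_pos j with rfl | hj
      · exact fun x _ => by simp [gammaFiltration]
      nth_rewrite 1 [gammaFiltration]
      rw [if_neg (by omega), AddSubgroup.closure_le]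
      rintro y ⟨l, hl, hw, rfl⟩
      change AdjoinRoot.of _ _ ∈ gammaFiltration Q j
      have := prod_mem_gammaFiltration Q (l.map fun p => (p.1, AdjoinRoot.of (KRR.extPoly P e) p.2))
        (fun p hp => by
          obtain ⟨q, hq, rfl⟩ := List.mem_map.1 hp
          rw [hext.aug_comp]; exact hl q hq) j (by simpa [List.map_map, Function.comp_def] using hw)
      rw [List.map_map] at this
      rw [map_list_prod, List.map_map]
      simp only [Function.comp_def, gamma_of P Q hext] at this ⊢
      exact this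
    have hv : ∀ i, vElt P (e := e) ^ i ∈ gammaFiltration Q i := fun i => by
      induction i with
      | zero => simp [gammaFiltration]
      | succ i ih =>
        rw [pow_succ]
        refine mul_mem_gammaFiltration Q ih ?_
        simpa [Groth.L08.Lambda.gamma_one] using prod_mem_gammaFiltration Q [(1, vElt P (e := e))]
          (fun p hp => by simp only [List.mem_singleton] at hp; subst hp; simp [hline.2]) 1 (by simp)
    exact gammaFiltration_antitone Q (by omega) (mul_mem_gammaFiltration Q (hmap _ ha) (hv i))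

end Lam

end Ext

end Groth.L13.ElemExt
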