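/-
λ-operations on polynomial rings and their descent to elementary extensions.
-/
import Groth.Agent.L13.ElemExt.Seq
import Groth.Agent.L08.Lambda.SplitSpecial
import Groth.Agent.L22.Sigma
import Mathlib.RingTheory.Polynomial.Vieta

set_option autoImplicit false

universe u

namespace Groth.L13.ElemExt

open Finset Groth.L08.Lambda LambdaRing Polynomial

variable {K : Type u} [CommRing K] [LambdaOps K]

/-- `λ_t(a T^k)`. -/
noncomputable def termSeries (k : ℕ) (a : K) : PowerSeries K[X] :=
  PowerSeries.rescale ((X : K[X]) ^ k) (PowerSeries.map (C : K →+* K[X]) (lamSeries a))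

theorem coeff_termSeries (k : ℕ) (a : K) (i : ℕ) :
    PowerSeries.coeff i (termSeries k a) = ((X : K[X]) ^ k) ^ i * C (LambdaOps.lam i a) := by
  rw [termSeries, PowerSeries.coeff_rescale, PowerSeries.coeff_map, L22.Lambda.coeff_lamSeries]

theorem termSeries_zero (k : ℕ) : termSeries k (0 : K) = 1 := by
  simp [termSeries, L22.Lambda.lamSeries_zero]

theorem termSeries_add (k : ℕ) (a b : K) : termSeries k (a + b) = termSeries k a * termSeries k b := by
  simp [termSeries, L22.Lambda.lamSeries_add]

/-- `λ_t` of a polynomial. -/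
noncomputable def polySeries (p : K[X]) : PowerSeries K[X] := ∏ k ∈ p.support, termSeries k (p.coeff k)

theorem polySeries_eq {p : K[X]} {s : Finset ℕ} (h : p.support ⊆ s) :
    polySeries p = ∏ k ∈ s, termSeries k (p.coeff k) :=
  prod_subset h fun k _ hk => by rw [notMem_support_iff.1 hk, termSeries_zero]

theorem polySeries_add (p q : K[X]) : polySeries (p + q) = polySeries p * polySeries q := by
  rw [polySeries_eq (s := p.support ∪ q.support) support_add,
    polySeries_eq (subset_union_left (s₂ := q.support)), polySeries_eq (subset_union_right (s₁ := p.support)),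
    ← prod_mul_distrib]
  simp [termSeries_add]

theorem coeff_zero_polySeries (p : K[X]) : PowerSeries.coeff 0 (polySeries p) = 1 := by
  rw [polySeries, PowerSeries.coeff_zero_eq_constantCoeff_apply, map_prod]
  refine prod_eq_one fun k _ => ?_
  rw [← PowerSeries.coeff_zero_eq_constantCoeff_apply, coeff_termSeries]
  simp [LambdaOps.lam_zero]

theorem coeff_one_prod {R : Type u} [CommRing R] {ι : Type*} [DecidableEq ι] (s : Finset ι)
    (f : ι → PowerSeries R) (h : ∀ i, PowerSeries.constantCoeff (f i) = 1) :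
    PowerSeries.coeff 1 (∏ i ∈ s, f i) = ∑ i ∈ s, PowerSeries.coeff 1 (f i) := by
  induction s using Finset.induction_on with
  | empty => simp [PowerSeries.coeff_one]
  | insert i s hi ih =>
    rw [prod_insert hi, sum_insert hi, PowerSeries.coeff_mul, Finset.Nat.sum_antidiagonal_eq_sum_range_succ_mk]
    simp [Finset.sum_range_succ, ih, map_prod, h, add_comm]

/-- The λ-operations on `K[T]` with `λ_t T = 1 + T t`. -/
@[instance_reducible]
noncomputable def polyOps : LambdaOps K[X] where
  lam i p := PowerSeries.coeff i (polySeries p)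
  lam_zero := coeff_zero_polySeries
  lam_one p := by
    rw [polySeries, coeff_one_prod _ _ fun k => by
      rw [← PowerSeries.coeff_zero_eq_constantCoeff_apply, coeff_termSeries]; simp [LambdaOps.lam_zero]]
    conv_rhs => rw [p.as_sum_support_C_mul_X_pow]
    exact sum_congr rfl fun k _ => by rw [coeff_termSeries, LambdaOps.lam_one, pow_one, mul_comm]
  lam_add k p q := by
    rw [polySeries_add, PowerSeries.coeff_mul, Finset.Nat.sum_antidiagonal_eq_sum_range_succ_mk]

attribute [local instance] polyOps

/-- The sequence `λ^i x`. -/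
def lseq {R : Type u} [CommRing R] [LambdaOps R] (x : R) : ℕ → R := fun i => LambdaOps.lam i x

theorem lseq_zero {R : Type u} [CommRing R] [LambdaOps R] (x : R) : lseq x 0 = 1 := LambdaOps.lam_zero x

theorem lseq_add {R : Type u} [CommRing R] [LambdaOps R] (x y : R) :
    lseq (x + y) = conv (lseq x) (lseq y) := funext fun n => LambdaOps.lam_add n x y

theorem lam_monomial (k : ℕ) (a : K) (i : ℕ) :
    LambdaOps.lam i (monomial k a) = ((X : K[X]) ^ k) ^ i * C (LambdaOps.lam i a) := by
  change PowerSeries.coeff i (polySeries _) = _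
  rw [polySeries_eq (s := {k}) (support_monomial' k a), prod_singleton, coeff_monomial, if_pos rfl,
    coeff_termSeries]

theorem lam_C (a : K) (i : ℕ) : LambdaOps.lam i (C a) = C (LambdaOps.lam i a) := by
  rw [← monomial_zero_left, lam_monomial]
  simp

theorem lam_one_poly (h1 : ∀ k, 2 ≤ k → LambdaOps.lam k (1 : K) = 0) (i : ℕ) :
    LambdaOps.lam i (1 : K[X]) = lineSeq 1 i := by
  rw [← C_1, lam_C]
  rcases i with - | - | i
  · simp [LambdaOps.lam_zero, lineSeq]
  · simp [LambdaOps.lam_one, lineSeq]
  · simp [lineSeq, h1 (i + 2) (by omega)]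

theorem lseq_X (h1 : ∀ k, 2 ≤ k → LambdaOps.lam k (1 : K) = 0) : lseq (X : K[X]) = lineSeq (X : K[X]) := by
  funext i
  rw [lseq, ← monomial_one_one_eq_X, lam_monomial, monomial_one_one_eq_X, pow_one]
  rcases i with - | - | i
  · simp [LambdaOps.lam_zero, lineSeq]
  · simp [LambdaOps.lam_one, lineSeq]
  · simp [lineSeq, h1 (i + 2) (by omega)]

/-- The multiplication identities hold on `K[T]`. -/
theorem lseq_mul (hK : IsSpecial K) (x y : K[X]) : lseq (x * y) = mulSeq mulPoly (lseq x) (lseq y) := by
  induction x using Polynomial.induction_on' with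
  | add x x' hx hx' =>
    funext n
    rw [add_mul, lseq_add, lseq_add, mulSeq_conv isMulPoly_mulPoly (lseq_zero x) (lseq_zero x') (lseq_zero y),
      hx, hx']
  | monomial k a =>
    induction y using Polynomial.induction_on' with
    | add y y' hy hy' =>
      funext n
      rw [mul_add, lseq_add, lseq_add, mulSeq_comm isMulPoly_mulPoly (lseq_zero _) (conv_zero (lseq_zero y) (lseq_zero y')),
        mulSeq_conv isMulPoly_mulPoly (lseq_zero y) (lseq_zero y') (lseq_zero _), hy, hy']
      exact sum_congr rfl fun i _ => by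
        rw [mulSeq_comm isMulPoly_mulPoly (lseq_zero _) (lseq_zero y),
          mulSeq_comm isMulPoly_mulPoly (lseq_zero _) (lseq_zero y')]
    | monomial l b =>
      funext n
      have hc : ∀ a : K, (fun i => C (LambdaOps.lam i a)) 0 = (1 : K[X]) := fun a => by
        simp [LambdaOps.lam_zero]
      have e : ∀ (k : ℕ) (a : K), lseq (monomial k a) = fun i => ((X : K[X]) ^ k) ^ i * (fun i => C (LambdaOps.lam i a)) i :=
        fun k a => funext fun i => lam_monomial k a i
      have e2 : C (LambdaOps.lam n (a * b)) =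
          mulSeq mulPoly (fun i => C (LambdaOps.lam i a)) (fun i => C (LambdaOps.lam i b)) n := by
        rw [lam_mul_eq_mulSeq hK, map_mulSeq]
      rw [e k a, e l b, mulSeq_scale isMulPoly_mulPoly _ (hc a) (by simp [LambdaOps.lam_zero]),
        mulSeq_comm isMulPoly_mulPoly (hc a) (by simp [LambdaOps.lam_zero]),
        mulSeq_scale isMulPoly_mulPoly _ (hc b) (hc a), mulSeq_comm isMulPoly_mulPoly (hc b) (hc a), ← e2,
        lseq, monomial_mul_monomial, lam_monomial]
      ring

theorem lam_X_mul (hK : IsSpecial K) (x : K[X]) (i : ℕ) :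
    LambdaOps.lam i (X * x) = X ^ i * LambdaOps.lam i x := by
  have := congrFun (lseq_mul hK x X) i
  rw [lseq_X hK.lam_one_eq_zero, mulSeq_lineSeq isMulPoly_mulPoly (lseq_zero x)] at this
  rw [mul_comm X x]
  exact this

theorem lam_C_line_mul (hK : IsSpecial K) (u : K) (hu : ∀ k, 2 ≤ k → LambdaOps.lam k u = 0) (x : K[X]) (i : ℕ) :
    LambdaOps.lam i (C u * x) = C u ^ i * LambdaOps.lam i x := by
  have hseq : lseq (C u) = lineSeq (C u) := by
    funext j
    rw [lseq, lam_C]
    rcases j with - | - | j
    · simp [LambdaOps.lam_zero, lineSeq]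
    · simp [LambdaOps.lam_one, lineSeq]
    · simp [lineSeq, hu (j + 2) (by omega)]
  have := congrFun (lseq_mul hK x (C u)) i
  rw [hseq, mulSeq_lineSeq isMulPoly_mulPoly (lseq_zero x)] at this
  rw [mul_comm (C u) x]
  exact this

/-- `λ^i ∏ (T - u) ∈ (∏ (T - u))`. -/
theorem dvd_lam_prod_X_sub_C (hK : IsSpecial K) (P : PosStructure K) (s : Multiset K)
    (hs : ∀ u ∈ s, P.IsLine u) :
    ∀ i, 1 ≤ i → (s.map fun u => X - C u).prod ∣ LambdaOps.lam i (s.map fun u => X - C u).prod := by
  induction s using Multiset.induction with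
  | empty => simp
  | cons u s ih =>
    have ih := ih fun v hv => hs v (Multiset.mem_cons_of_mem hv)
    have hu := fun k hk => L22.Lambda.lam_eq_zero_of_isLine P (hs u (Multiset.mem_cons_self u s)) (i := k) hk
    intro i
    induction i using Nat.strong_induction_on with
    | _ i iih =>
      intro hi
      rw [Multiset.map_cons, Multiset.prod_cons] at iih ⊢
      set q := (s.map fun u => X - C u).prod
      have h : LambdaOps.lam i (X * q) =
          ∑ a ∈ range (i + 1), LambdaOps.lam a ((X - C u) * q) * LambdaOps.lam (i - a) (C u * q) := by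
        rw [← LambdaOps.lam_add]
        congr 1
        ring
      rw [lam_X_mul hK, sum_range_succ, Nat.sub_self, LambdaOps.lam_zero, mul_one] at h
      obtain ⟨j, rfl⟩ : ∃ j, i = j + 1 := ⟨i - 1, by omega⟩
      rw [sum_range_succ', LambdaOps.lam_zero, one_mul, Nat.sub_zero, lam_C_line_mul hK u hu] at h
      have hd : (X - C u) * q ∣ (X ^ (j + 1) - C u ^ (j + 1)) * LambdaOps.lam (j + 1) q :=
        mul_dvd_mul (sub_dvd_pow_sub_pow _ _ _) (ih (j + 1) (by omega))
      have e : LambdaOps.lam (j + 1) ((X - C u) * q) = (X ^ (j + 1) - C u ^ (j + 1)) * LambdaOps.lam (j + 1) q -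
          ∑ a ∈ range j, LambdaOps.lam (a + 1) ((X - C u) * q) * LambdaOps.lam (j + 1 - (a + 1)) (C u * q) := by
        linear_combination -h
      rw [e]
      exact dvd_sub hd (dvd_sum fun a ha =>
        (iih (a + 1) (by have := mem_range.1 ha; omega) (by omega)).mul_right _)

theorem map_lam {L : Type u} [CommRing L] [LambdaOps L] (f : K →+* L) (hf : IsLambdaHom f) (p : K[X]) (i : ℕ) :
    (LambdaOps.lam i p).map f = LambdaOps.lam i (p.map f) := by
  have h : PowerSeries.map (mapRingHom f) (polySeries p) = polySeries (p.map f) := by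
    rw [polySeries, map_prod, polySeries_eq (s := p.support) (support_map_subset f p)]
    refine prod_congr rfl fun k _ => ?_
    ext j : 1
    rw [PowerSeries.coeff_map, coeff_termSeries, coeff_termSeries, coeff_map, map_mul, map_pow, map_pow,
      coe_mapRingHom, map_X, map_C, hf j]
  have := congrArg (PowerSeries.coeff i) h
  rwa [PowerSeries.coeff_map] at this

section Ext

variable (P : PosStructure K) {e : K} (hK : HasSplitting K P) (he : e ∈ P.pos)

omit [LambdaOps K] in
theorem esymm_prod {L : Type u} [CommRing L] (s : Multiset L) :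
    (s.map fun u => X - C u).prod = ∑ i ∈ range (Multiset.card s + 1),
      C ((-1) ^ i * s.esymm i) * X ^ (Multiset.card s - i) := by
  rw [Multiset.prod_X_sub_X_eq_sum_esymm]
  exact sum_congr rfl fun i _ => by simp [mul_assoc]

include hK he in
theorem extPoly_dvd_lam (i : ℕ) (hi : 1 ≤ i) : KRR.extPoly P e ∣ LambdaOps.lam i (KRR.extPoly P e) := by
  obtain ⟨L, _, _, Q, f, s, hf, hL, hs, -, hcard, hlam⟩ := L22.Lambda.exists_splitting P hK he
  have hp : (KRR.extPoly P e).map f = (s.map fun u => X - C u).prod := by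
    rw [esymm_prod, KRR.extPoly, Polynomial.map_sum, ← hcard, Int.toNat_natCast]
    exact sum_congr rfl fun j _ => by simp [← hlam]
  have hd := dvd_lam_prod_X_sub_C (isSpecial_of_splitting hL) Q s hs i hi
  rw [← hp, ← map_lam f hf.isLambdaHom] at hd
  have hm : (KRR.extPoly P e).Monic := by
    obtain ⟨r, hr⟩ : ∃ r : ℕ, P.aug e = r + 1 := ⟨(P.aug e).toNat - 1, by have := P.aug_pos e he; omega⟩
    exact L22.Lambda.monic_extPoly P hr
  exact (map_dvd_map f hf.injective hm).1 hd

include hK he in
theorem mk_lam_add_mul (x g : K[X]) (i : ℕ) :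
    AdjoinRoot.mk (KRR.extPoly P e) (LambdaOps.lam i (x + KRR.extPoly P e * g)) =
      AdjoinRoot.mk (KRR.extPoly P e) (LambdaOps.lam i x) := by
  set p := KRR.extPoly P e
  have h0 : ∀ n, AdjoinRoot.mk p (lseq (p * g) n) = lineSeq 0 n := fun n => by
    rw [lseq_mul (isSpecial_of_splitting hK), map_mulSeq]
    rw [mulSeq_congr (a' := lineSeq 0) (b' := fun i => AdjoinRoot.mk p (lseq g i)) ?_ (fun _ => rfl),
      mulSeq_one_left isMulPoly_mulPoly (by simp [lseq_zero])]
    intro j
    rcases j with - | j
    · simp [lseq_zero, lineSeq]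
    · rw [show AdjoinRoot.mk p (lseq p (j + 1)) = 0 from AdjoinRoot.mk_eq_zero.2 (extPoly_dvd_lam P hK he (j + 1) (by omega))]
      simp [lineSeq]
  rw [LambdaOps.lam_add, map_sum, sum_eq_single_of_mem i (mem_range.2 (by omega))]
  · rw [map_mul, Nat.sub_self, LambdaOps.lam_zero, map_one, mul_one]
  · intro j hj hne
    rw [map_mul, show AdjoinRoot.mk p (LambdaOps.lam (i - j) (p * g)) = lineSeq 0 (i - j) from h0 _]
    have := mem_range.1 hj
    simp [lineSeq, show i - j ≠ 0 by omega]

/-- A polynomial representative. -/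
noncomputable def rep (z : AdjoinRoot (KRR.extPoly P e)) : K[X] := (AdjoinRoot.mk_surjective z).choose

theorem mk_rep (z : AdjoinRoot (KRR.extPoly P e)) : AdjoinRoot.mk (KRR.extPoly P e) (rep P z) = z :=
  (AdjoinRoot.mk_surjective z).choose_spec

include hK he in
theorem mk_lam_congr {x y : K[X]} (h : AdjoinRoot.mk (KRR.extPoly P e) x = AdjoinRoot.mk (KRR.extPoly P e) y)
    (i : ℕ) : AdjoinRoot.mk (KRR.extPoly P e) (LambdaOps.lam i x) =
      AdjoinRoot.mk (KRR.extPoly P e) (LambdaOps.lam i y) := by
  obtain ⟨g, hg⟩ := AdjoinRoot.mk_eq_mk.1 h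
  rw [show x = y + KRR.extPoly P e * g by rw [← hg]; ring, mk_lam_add_mul P hK he]

/-- The λ-operations on the elementary extension. -/
@[instance_reducible]
noncomputable def extOps : LambdaOps (AdjoinRoot (KRR.extPoly P e)) where
  lam i z := AdjoinRoot.mk _ (LambdaOps.lam i (rep P z))
  lam_zero z := by rw [LambdaOps.lam_zero, map_one]
  lam_one z := by rw [LambdaOps.lam_one, mk_rep]
  lam_add k z w := by
    rw [mk_lam_congr P hK he (y := rep P z + rep P w) (by rw [map_add, mk_rep, mk_rep, mk_rep]),
      LambdaOps.lam_add, map_sum]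
    simp only [map_mul]

theorem extOps_lam_mk (x : K[X]) (i : ℕ) :
    (extOps P hK he).lam i (AdjoinRoot.mk (KRR.extPoly P e) x) =
      AdjoinRoot.mk (KRR.extPoly P e) (LambdaOps.lam i x) :=
  mk_lam_congr P hK he (mk_rep P _) i

theorem extOps_lam_mul (z w : AdjoinRoot (KRR.extPoly P e)) (n : ℕ) :
    (extOps P hK he).lam n (z * w) =
      mulSeq mulPoly (fun i => (extOps P hK he).lam i z) (fun i => (extOps P hK he).lam i w) n := by
  obtain ⟨x, rfl⟩ := AdjoinRoot.mk_surjective z
  obtain ⟨y, rfl⟩ := AdjoinRoot.mk_surjective w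
  simp only [← map_mul, extOps_lam_mk]
  rw [show LambdaOps.lam n (x * y) = lseq (x * y) n from rfl, lseq_mul (isSpecial_of_splitting hK), map_mulSeq]
  rfl

end Ext

end Groth.L13.ElemExt
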