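/-
The elementary extension as a λ-ring with positive structure.
-/
import Groth.Agent.L13.ElemExt.Poly

set_option autoImplicit false

universe u

namespace Groth.L13.ElemExt

open Finset Groth.L08.Lambda LambdaRing Polynomial

variable {K : Type u} [CommRing K] [LambdaOps K] (P : PosStructure K) {e : K}
  (hK : HasSplitting K P) (he : e ∈ P.pos)

include he in
theorem exists_rank : ∃ r : ℕ, P.aug e = r + 1 :=
  ⟨(P.aug e).toNat - 1, by have := P.aug_pos e he; omega⟩

include hK he in
theorem eval_aug_extPoly : (KRR.extPoly P e).eval₂ P.aug 1 = 0 := by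
  obtain ⟨r, hr⟩ := exists_rank P he
  have hm : (P.aug e).toNat = r + 1 := by omega
  rw [KRR.extPoly, hm, eval₂_finsetSum]
  simp only [eval₂_mul, eval₂_C, eval₂_X_pow, one_pow, mul_one, map_mul, map_pow, map_neg, map_one,
    L22.Lambda.aug_lam P hK he (m := r + 1) (by rw [hr]; push_cast; ring)]
  simp only [eval₂_pow, eval₂_neg, eval₂_one]
  exact Int.alternating_sum_range_choose_of_ne (Nat.succ_ne_zero r)

/-- The augmentation of the elementary extension. -/
noncomputable def extAug : AdjoinRoot (KRR.extPoly P e) →+* ℤ :=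
  AdjoinRoot.lift P.aug 1 (eval_aug_extPoly P hK he)

theorem extAug_of (x : K) : extAug P hK he (AdjoinRoot.of _ x) = P.aug x := AdjoinRoot.lift_of _

theorem extAug_root : extAug P hK he (AdjoinRoot.root _) = 1 := AdjoinRoot.lift_root _

include hK he in
theorem isUnit_root : IsUnit (AdjoinRoot.root (KRR.extPoly P e)) := by
  obtain ⟨r, hr⟩ := exists_rank P he
  set p := KRR.extPoly P e with hp
  have hc : p.coeff 0 = (-1) ^ (r + 1) * LambdaOps.lam (r + 1) e := by
    have hm : (P.aug e).toNat = r + 1 := by omega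
    rw [hp, KRR.extPoly, hm, finsetSum_coeff, sum_eq_single_of_mem (r + 1) (mem_range.2 (by omega))]
    · rw [coeff_C_mul_X_pow, if_pos (Nat.sub_self _).symm]
    · intro j hj hne
      have := mem_range.1 hj
      rw [coeff_C_mul_X_pow, if_neg (by omega)]
  have hu : IsUnit (AdjoinRoot.of p (p.coeff 0)) := by
    rw [hc]
    refine IsUnit.map _ ((isUnit_one.neg.pow _).mul ?_)
    have := P.isUnit_lam e he
    rwa [show (P.aug e).toNat = r + 1 by omega] at this
  have h := congrArg (AdjoinRoot.mk p) (X_mul_divX_add p)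
  rw [map_add, map_mul, AdjoinRoot.mk_X, AdjoinRoot.mk_C, AdjoinRoot.mk_self] at h
  refine isUnit_of_mul_isUnit_left (y := AdjoinRoot.mk p p.divX) ?_
  rw [eq_neg_of_add_eq_zero_left h]
  exact hu.neg

include he in
theorem of_injective : Function.Injective (AdjoinRoot.of (KRR.extPoly P e)) := by
  haveI : Nontrivial K := P.aug.domain_nontrivial
  obtain ⟨r, hr⟩ := exists_rank P he
  have hm := L22.Lambda.monic_extPoly P hr
  rw [injective_iff_map_eq_zero]
  intro x hx
  rw [← AdjoinRoot.mk_C, AdjoinRoot.mk_eq_zero, ← modByMonic_eq_zero_iff_dvd hm,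
    (modByMonic_eq_self_iff hm).2] at hx
  · exact C_eq_zero.1 hx
  · refine lt_of_le_of_lt degree_C_le ?_
    rw [degree_eq_natDegree hm.ne_zero, L22.Lambda.natDegree_extPoly P hr]
    exact_mod_cast Nat.succ_pos r

theorem extOps_lam_of (x : K) (i : ℕ) :
    (extOps P hK he).lam i (AdjoinRoot.of (KRR.extPoly P e) x) = AdjoinRoot.of _ (LambdaOps.lam i x) := by
  rw [← AdjoinRoot.mk_C, extOps_lam_mk, lam_C, AdjoinRoot.mk_C]

theorem extOps_lam_root (i : ℕ) :
    (extOps P hK he).lam i (AdjoinRoot.root (KRR.extPoly P e)) = lineSeq (AdjoinRoot.root _) i := by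
  rw [← AdjoinRoot.mk_X, extOps_lam_mk]
  rw [show @LambdaOps.lam K[X] _ polyOps i X = lineSeq X i from
    congrFun (lseq_X (isSpecial_of_splitting hK).lam_one_eq_zero) i]
  unfold lineSeq
  split_ifs <;> simp

/-- Elements with finitely many non-zero λ-operations. -/
def extPos : Set (AdjoinRoot (KRR.extPoly P e)) :=
  {x | 0 < extAug P hK he x ∧ (∀ i : ℕ, extAug P hK he x < i → (extOps P hK he).lam i x = 0) ∧
    IsUnit ((extOps P hK he).lam (extAug P hK he x).toNat x)}

theorem extPos_add {x y : AdjoinRoot (KRR.extPoly P e)} (hx : x ∈ extPos P hK he) (hy : y ∈ extPos P hK he) :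
    x + y ∈ extPos P hK he := by
  obtain ⟨a, ha⟩ := Int.eq_ofNat_of_zero_le hx.1.le
  obtain ⟨b, hb⟩ := Int.eq_ofNat_of_zero_le hy.1.le
  have hab : extAug P hK he (x + y) = ((a + b : ℕ) : ℤ) := by rw [map_add, ha, hb]; push_cast; rfl
  have hx' : ∀ i, a < i → (extOps P hK he).lam i x = 0 := fun i hi => hx.2.1 i (by omega)
  have hy' : ∀ i, b < i → (extOps P hK he).lam i y = 0 := fun i hi => hy.2.1 i (by omega)
  refine ⟨by rw [map_add]; exact add_pos hx.1 hy.1, fun i hi => ?_, ?_⟩
  · rw [(extOps P hK he).lam_add]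
    refine sum_eq_zero fun j hj => ?_
    rcases lt_or_ge a j with h | h
    · rw [hx' j h, zero_mul]
    · rw [hy' (i - j) (by omega), mul_zero]
  · rw [hab, Int.toNat_natCast, (extOps P hK he).lam_add, sum_eq_single_of_mem a (mem_range.2 (by omega))]
    · rw [Nat.add_sub_cancel_left]
      refine IsUnit.mul ?_ ?_
      · simpa [ha] using hx.2.2
      · simpa [hb] using hy.2.2
    · intro j hj hne
      rcases lt_or_ge a j with h | h
      · rw [hx' j h, zero_mul]
      · rw [hy' _ (by omega), mul_zero]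

theorem extPos_mul {x y : AdjoinRoot (KRR.extPoly P e)} (hx : x ∈ extPos P hK he) (hy : y ∈ extPos P hK he) :
    x * y ∈ extPos P hK he := by
  obtain ⟨a, ha⟩ := Int.eq_ofNat_of_zero_le hx.1.le
  obtain ⟨b, hb⟩ := Int.eq_ofNat_of_zero_le hy.1.le
  have hab : extAug P hK he (x * y) = ((a * b : ℕ) : ℤ) := by rw [map_mul, ha, hb]; push_cast; rfl
  obtain ⟨h0, htop⟩ := mulSeq_finite isMulPoly_mulPoly (a := fun i => (extOps P hK he).lam i x)
    (b := fun i => (extOps P hK he).lam i y) ((extOps P hK he).lam_zero x) ((extOps P hK he).lam_zero y)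
    (p := a) (q := b) (fun i hi => hx.2.1 i (by omega)) (fun i hi => hy.2.1 i (by omega))
  refine ⟨by rw [map_mul]; exact mul_pos hx.1 hy.1, fun i hi => ?_, ?_⟩
  · rw [extOps_lam_mul]
    exact h0 i (by omega)
  · rw [hab, Int.toNat_natCast, extOps_lam_mul, htop]
    exact ((by simpa [ha] using hx.2.2 : IsUnit _).pow _).mul ((by simpa [hb] using hy.2.2 : IsUnit _).pow _)

theorem of_mem_extPos {x : K} (hx : x ∈ P.pos) : AdjoinRoot.of _ x ∈ extPos P hK he := by
  refine ⟨by rw [extAug_of]; exact P.aug_pos x hx, fun i hi => ?_, ?_⟩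
  · rw [extOps_lam_of, P.lam_eq_zero x hx i (by rwa [extAug_of] at hi), map_zero]
  · rw [extOps_lam_of, extAug_of]
    exact (P.isUnit_lam x hx).map _

theorem root_mem_extPos : AdjoinRoot.root _ ∈ extPos P hK he := by
  refine ⟨by rw [extAug_root]; exact one_pos, fun i hi => ?_, ?_⟩
  · rw [extAug_root] at hi
    rw [extOps_lam_root, lineSeq, if_neg (by omega), if_neg (by omega)]
  · rw [extAug_root, Int.toNat_one, extOps_lam_root, lineSeq, if_neg one_ne_zero, if_pos rfl]
    exact isUnit_root P hK he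

theorem exists_sub_extPos (z : AdjoinRoot (KRR.extPoly P e)) :
    ∃ a b, a ∈ extPos P hK he ∧ b ∈ extPos P hK he ∧ z = a - b := by
  obtain ⟨p, rfl⟩ := AdjoinRoot.mk_surjective z
  induction p using Polynomial.induction_on' with
  | add p q hp hq =>
    obtain ⟨a, b, ha, hb, h⟩ := hp
    obtain ⟨c, d, hc, hd, h'⟩ := hq
    exact ⟨a + c, b + d, extPos_add P hK he ha hc, extPos_add P hK he hb hd, by rw [map_add, h, h']; ring⟩
  | monomial n k =>
    obtain ⟨a, b, ha, hb, rfl⟩ := P.exists_sub k
    have hp : ∀ (n : ℕ) (a : K), a ∈ P.pos → AdjoinRoot.of _ a * AdjoinRoot.root _ ^ n ∈ extPos P hK he := by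
      intro n a ha
      induction n with
      | zero => rw [pow_zero, mul_one]; exact of_mem_extPos P hK he ha
      | succ n ih => rw [pow_succ, ← mul_assoc]; exact extPos_mul P hK he ih (root_mem_extPos P hK he)
    refine ⟨_, _, hp n a ha, hp n b hb, ?_⟩
    rw [← C_mul_X_pow_eq_monomial, map_mul, map_pow, AdjoinRoot.mk_X, AdjoinRoot.mk_C, map_sub, sub_mul]

/-- The positive structure of the elementary extension. -/
noncomputable def extPosStructure : @PosStructure (AdjoinRoot (KRR.extPoly P e)) _ (extOps P hK he) := by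
  letI := extOps P hK he
  exact
  { aug := extAug P hK he
    aug_surjective := fun n => ⟨(n : AdjoinRoot (KRR.extPoly P e)), map_intCast _ n⟩
    pos := extPos P hK he
    add_mem := fun _ _ => extPos_add P hK he
    mul_mem := fun _ _ => extPos_mul P hK he
    natCast_mem := fun n hn => by
      rw [← map_natCast (AdjoinRoot.of (KRR.extPoly P e)) n]
      exact of_mem_extPos P hK he (P.natCast_mem n hn)
    exists_sub := exists_sub_extPos P hK he
    aug_pos := fun _ h => h.1
    lam_eq_zero := fun _ h => h.2.1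
    isUnit_lam := fun _ h => h.2.2 }

theorem qElt_mem_extPos (h2 : 2 ≤ P.aug e) :
    AdjoinRoot.of _ e - AdjoinRoot.root _ ∈ extPos P hK he := by
  letI := extOps P hK he
  obtain ⟨r, hr⟩ := exists_rank P he
  have hl : ∀ i x, LambdaOps.lam i (AdjoinRoot.of (KRR.extPoly P e) x) =
      AdjoinRoot.of (KRR.extPoly P e) (LambdaOps.lam i x) := fun i x => extOps_lam_of P hK he x i
  have hroot : ∀ i, 2 ≤ i → LambdaOps.lam i (AdjoinRoot.root (KRR.extPoly P e)) = 0 := fun i hi =>
    (extOps_lam_root P hK he i).trans (by rw [lineSeq, if_neg (by omega), if_neg (by omega)])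
  have hz : ∀ k, r + 1 ≤ k → LambdaOps.lam k (L22.Lambda.qElt P e) = 0 := by
    intro k hk
    induction k, hk using Nat.le_induction with
    | base => exact L22.Lambda.lam_qElt_top P e hl hroot hr
    | succ k hk ih =>
      rw [L22.Lambda.lam_qElt_succ P e hl hroot, ih, mul_zero, P.lam_eq_zero e he _ (by omega), map_zero, sub_zero]
  have haug : extAug P hK he (AdjoinRoot.of _ e - AdjoinRoot.root _) = (r : ℤ) := by
    rw [map_sub, extAug_of, extAug_root, hr]; ring
  refine ⟨by rw [haug]; omega, fun i hi => hz i (by rw [haug] at hi; omega), ?_⟩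
  rw [haug, Int.toNat_natCast]
  have h := L22.Lambda.lam_qElt_succ P e hl hroot r
  rw [L22.Lambda.lam_qElt_top P e hl hroot hr, eq_comm, sub_eq_zero] at h
  refine isUnit_of_mul_isUnit_right (x := AdjoinRoot.root (KRR.extPoly P e)) ?_
  change IsUnit (_ * LambdaOps.lam r (L22.Lambda.qElt P e))
  rw [← h]
  refine IsUnit.map _ ?_
  have := P.isUnit_lam e he
  rwa [show (P.aug e).toNat = r + 1 by omega] at this

end Groth.L13.ElemExt
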